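import Cfsg.Agent.LieClassical.HermBasic
import Cfsg.Agent.LieClassical.GUOrder
set_option linter.all false

/-!
# Embeddings of `SU m F q` into `SU n F q` along an injection of indices

`mat g` : the matrix of `g : SU n F q`.
`ext hF e he : SU m F q →* SU n F q` for an injective map `e : Fin m → Fin n`.
`sh k : Fin m → Fin n`, `i ↦ k + i`.
-/

set_option autoImplicit false

namespace Cfsg.Agent.Phan

open Matrix Cfsg
open Cfsg.Agent.LieClassical.HermBasic

variable {F : Type*} [Field F] {q : ℕ}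

/-- The matrix of an element of `SU n F q`. -/
def mat {n : ℕ} (g : SU n F q) : Matrix (Fin n) (Fin n) F :=
  ((g : SpecialLinearGroup (Fin n) F) : Matrix (Fin n) (Fin n) F)

theorem mat_mul {n : ℕ} (g h : SU n F q) : mat (g * h) = mat g * mat h := rfl

theorem mat_one {n : ℕ} : mat (1 : SU n F q) = 1 := rfl

theorem mat_inj {n : ℕ} {g h : SU n F q} (e : mat g = mat h) : g = h :=
  Subtype.ext (Subtype.ext e)

theorem mat_det {n : ℕ} (g : SU n F q) : (mat g).det = 1 := (g : SpecialLinearGroup (Fin n) F).2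

theorem mat_isom {n : ℕ} (g : SU n F q) (u v : Fin n → F) :
    hermForm n F q (mat g *ᵥ u) (mat g *ᵥ v) = hermForm n F q u v := g.2 u v

/-- The element of `SU` with a given matrix. -/
def mk {n : ℕ} (A : Matrix (Fin n) (Fin n) F) (hd : A.det = 1)
    (hA : ∀ u v : Fin n → F, hermForm n F q (A *ᵥ u) (A *ᵥ v) = hermForm n F q u v) : SU n F q :=
  ⟨⟨A, hd⟩, hA⟩

theorem mat_mk {n : ℕ} (A : Matrix (Fin n) (Fin n) F) (hd : A.det = 1)
    (hA : ∀ u v : Fin n → F, hermForm n F q (A *ᵥ u) (A *ᵥ v) = hermForm n F q u v) :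
    mat (mk A hd hA) = A := rfl

theorem mat_inv_mul {n : ℕ} (g : SU n F q) : mat g⁻¹ * mat g = 1 := by
  rw [← mat_mul, inv_mul_cancel, mat_one]

theorem mat_mul_inv {n : ℕ} (g : SU n F q) : mat g * mat g⁻¹ = 1 := by
  rw [← mat_mul, mul_inv_cancel, mat_one]

/-! ### inclusion matrices -/

variable {l m n : ℕ}

/-- The matrix of the inclusion of coordinates. -/
def inc (F : Type*) [Field F] (e : Fin m → Fin n) : Matrix (Fin n) (Fin m) F :=
  Matrix.of fun x i => if x = e i then 1 else 0

theorem inc_apply (e : Fin m → Fin n) (x : Fin n) (i : Fin m) :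
    inc F e x i = if x = e i then 1 else 0 := rfl

theorem inc_mul_inc (e : Fin m → Fin n) (f : Fin l → Fin m) :
    inc F e * inc F f = inc F (e ∘ f) := by
  ext x i
  rw [Matrix.mul_apply, Finset.sum_eq_single (f i)]
  · simp [inc_apply]
  · intro j _ hj
    simp [inc_apply, hj]
  · intro h; exact absurd (Finset.mem_univ _) h

theorem incT_mul_inc {e : Fin m → Fin n} (he : Function.Injective e) :
    (inc F e)ᵀ * inc F e = 1 := by
  ext i j
  rw [Matrix.mul_apply, Finset.sum_eq_single (e i), Matrix.one_apply]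
  · simp [inc_apply, he.eq_iff]
  · intro x _ hx
    simp [inc_apply, hx]
  · intro h; exact absurd (Finset.mem_univ _) h

theorem incT_mul_inc_of_disjoint {e : Fin m → Fin n} {f : Fin l → Fin n}
    (h : ∀ i j, e i ≠ f j) : (inc F e)ᵀ * inc F f = 0 := by
  ext i j
  rw [Matrix.mul_apply, Matrix.zero_apply]
  refine Finset.sum_eq_zero fun x _ => ?_
  rw [Matrix.transpose_apply, inc_apply, inc_apply]
  by_cases h1 : x = e i
  · rw [if_neg (c := x = f j) (by rw [h1]; exact h i j), mul_zero]
  · rw [if_neg h1, zero_mul]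

theorem incT_mulVec (e : Fin m → Fin n) (v : Fin n → F) : (inc F e)ᵀ *ᵥ v = v ∘ e := by
  funext i
  simp [Matrix.mulVec, dotProduct, inc_apply]

theorem inc_mulVec {e : Fin m → Fin n} (he : Function.Injective e) (v : Fin m → F) (i : Fin m) :
    (inc F e *ᵥ v) (e i) = v i := by
  simp [Matrix.mulVec, dotProduct, inc_apply, he.eq_iff]

theorem inc_mulVec_of_notMem {e : Fin m → Fin n} {x : Fin n} (h : ∀ i, x ≠ e i)
    (v : Fin m → F) : (inc F e *ᵥ v) x = 0 := by
  simp [Matrix.mulVec, dotProduct, inc_apply, h]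

/-- Extension of a matrix by the identity. -/
def extM (e : Fin m → Fin n) (A : Matrix (Fin m) (Fin m) F) : Matrix (Fin n) (Fin n) F :=
  1 + inc F e * (A - 1) * (inc F e)ᵀ

theorem extM_one (e : Fin m → Fin n) : extM e (1 : Matrix (Fin m) (Fin m) F) = 1 := by
  simp [extM]

theorem extM_mul {e : Fin m → Fin n} (he : Function.Injective e)
    (A B : Matrix (Fin m) (Fin m) F) : extM e (A * B) = extM e A * extM e B := by
  have h := incT_mul_inc (F := F) he
  simp only [extM]
  have h2 : inc F e * (A - 1) * (inc F e)ᵀ * (inc F e * (B - 1) * (inc F e)ᵀ) =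
      inc F e * ((A - 1) * (B - 1)) * (inc F e)ᵀ := by
    calc inc F e * (A - 1) * (inc F e)ᵀ * (inc F e * (B - 1) * (inc F e)ᵀ)
        = inc F e * (A - 1) * ((inc F e)ᵀ * inc F e) * (B - 1) * (inc F e)ᵀ := by
          simp only [Matrix.mul_assoc]
      _ = _ := by rw [h, Matrix.mul_one]; simp only [Matrix.mul_assoc]
  rw [Matrix.add_mul, Matrix.mul_add, Matrix.mul_add, h2, Matrix.one_mul, Matrix.one_mul,
    Matrix.mul_one]
  have h3 : A * B - 1 = (B - 1) + ((A - 1) + (A - 1) * (B - 1)) := by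
    simp only [Matrix.sub_mul, Matrix.mul_sub, Matrix.one_mul, Matrix.mul_one]
    abel
  rw [h3, Matrix.mul_add, Matrix.mul_add, Matrix.add_mul, Matrix.add_mul]
  abel

theorem extM_det {e : Fin m → Fin n} (he : Function.Injective e) (A : Matrix (Fin m) (Fin m) F) :
    (extM e A).det = A.det := by
  rw [extM, Matrix.mul_assoc, Matrix.det_one_add_mul_comm, Matrix.mul_assoc, incT_mul_inc he,
    Matrix.mul_one]
  congr 1
  abel

theorem extM_transpose (e : Fin m → Fin n) (A : Matrix (Fin m) (Fin m) F) :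
    (extM e A)ᵀ = extM e Aᵀ := by
  simp only [extM, Matrix.transpose_add, Matrix.transpose_mul, Matrix.transpose_transpose,
    Matrix.transpose_sub, Matrix.transpose_one, Matrix.mul_assoc]

theorem extM_map (e : Fin m → Fin n) (A : Matrix (Fin m) (Fin m) F) (f : F →+* F) :
    (extM e A).map f = extM e (A.map f) := by
  have h1 : (inc F e).map f = inc F e := by
    ext x i
    rw [Matrix.map_apply, inc_apply]
    split <;> simp
  have h2 : ((inc F e)ᵀ).map f = (inc F e)ᵀ := by
    rw [Matrix.transpose_map, h1]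
  rw [extM, extM]
  rw [Matrix.map_add f (map_add f), Matrix.map_mul, Matrix.map_mul, h1, h2,
    Matrix.map_sub f (map_sub f), Matrix.map_one f (map_zero f) (map_one f),
    Matrix.map_one f (map_zero f) (map_one f)]

theorem extM_comp (e : Fin m → Fin n) (f : Fin l → Fin m) (A : Matrix (Fin l) (Fin l) F) :
    extM e (extM f A) = extM (e ∘ f) A := by
  rw [extM, extM, extM, ← inc_mul_inc, Matrix.transpose_mul, add_sub_cancel_left]
  simp only [Matrix.mul_assoc]

theorem extM_comm {e : Fin m → Fin n} {f : Fin l → Fin n} (h : ∀ i j, e i ≠ f j)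
    (A : Matrix (Fin m) (Fin m) F) (B : Matrix (Fin l) (Fin l) F) :
    extM e A * extM f B = extM f B * extM e A := by
  have h1 := incT_mul_inc_of_disjoint (F := F) h
  have h2 : (inc F f)ᵀ * inc F e = 0 := incT_mul_inc_of_disjoint (F := F) fun i j => (h j i).symm
  have h3 : inc F e * (A - 1) * (inc F e)ᵀ * (inc F f * (B - 1) * (inc F f)ᵀ) = 0 := by
    calc inc F e * (A - 1) * (inc F e)ᵀ * (inc F f * (B - 1) * (inc F f)ᵀ)
        = inc F e * (A - 1) * ((inc F e)ᵀ * inc F f) * (B - 1) * (inc F f)ᵀ := by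
          simp only [Matrix.mul_assoc]
      _ = _ := by rw [h1]; simp
  have h4 : inc F f * (B - 1) * (inc F f)ᵀ * (inc F e * (A - 1) * (inc F e)ᵀ) = 0 := by
    calc inc F f * (B - 1) * (inc F f)ᵀ * (inc F e * (A - 1) * (inc F e)ᵀ)
        = inc F f * (B - 1) * ((inc F f)ᵀ * inc F e) * (A - 1) * (inc F e)ᵀ := by
          simp only [Matrix.mul_assoc]
      _ = _ := by rw [h2]; simp
  rw [extM, extM, Matrix.add_mul, Matrix.mul_add, Matrix.mul_add, Matrix.add_mul, Matrix.mul_add,
    Matrix.mul_add, h3, h4]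
  simp only [Matrix.one_mul, Matrix.mul_one]
  abel

theorem extM_mulVec {e : Fin m → Fin n} (he : Function.Injective e)
    (A : Matrix (Fin m) (Fin m) F) (v : Fin n → F) (i : Fin m) :
    (extM e A *ᵥ v) (e i) = (A *ᵥ (v ∘ e)) i := by
  rw [extM, Matrix.add_mulVec, Matrix.one_mulVec, ← Matrix.mulVec_mulVec, ← Matrix.mulVec_mulVec,
    incT_mulVec, Pi.add_apply, inc_mulVec he, Matrix.sub_mulVec, Matrix.one_mulVec, Pi.sub_apply,
    Function.comp_apply, add_sub_cancel]

theorem extM_mulVec_of_notMem {e : Fin m → Fin n} {x : Fin n} (h : ∀ i, x ≠ e i)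
    (A : Matrix (Fin m) (Fin m) F) (v : Fin n → F) : (extM e A *ᵥ v) x = v x := by
  rw [extM, Matrix.add_mulVec, Matrix.one_mulVec, ← Matrix.mulVec_mulVec, ← Matrix.mulVec_mulVec,
    Pi.add_apply, inc_mulVec_of_notMem h, add_zero]

/-- The embedding matrix commutes with the action: `ext A (inc v) = inc (A v)`. -/
theorem extM_inc {e : Fin m → Fin n} (he : Function.Injective e)
    (A : Matrix (Fin m) (Fin m) F) (v : Fin m → F) :
    extM e A *ᵥ (inc F e *ᵥ v) = inc F e *ᵥ (A *ᵥ v) := by
  rw [extM, Matrix.add_mulVec, Matrix.one_mulVec, Matrix.mulVec_mulVec, Matrix.mul_assoc,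
    Matrix.mul_assoc, incT_mul_inc he, Matrix.mul_one, ← Matrix.mulVec_mulVec,
    ← Matrix.mulVec_add, Matrix.sub_mulVec, Matrix.one_mulVec, add_sub_cancel]

/-- `inc` preserves the form. -/
theorem herm_inc {e : Fin m → Fin n} (he : Function.Injective e) (u v : Fin m → F) :
    hermForm n F q (inc F e *ᵥ u) (inc F e *ᵥ v) = hermForm m F q u v := by
  rw [herm_def, herm_def]
  have h1 : ∀ x ∉ Set.range e, (inc F e *ᵥ u) x * (inc F e *ᵥ v) x ^ q = 0 := by
    intro x hx
    rw [inc_mulVec_of_notMem (fun i hi => hx ⟨i, hi.symm⟩), zero_mul]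
  rw [← Finset.sum_subset (Finset.subset_univ (Finset.univ.map ⟨e, he⟩))]
  · rw [Finset.sum_map]
    refine Finset.sum_congr rfl fun i _ => ?_
    change (inc F e *ᵥ u) (e i) * (inc F e *ᵥ v) (e i) ^ q = _
    rw [inc_mulVec he, inc_mulVec he]
  · intro x _ hx
    apply h1
    rintro ⟨i, rfl⟩
    exact hx (Finset.mem_map_of_mem ⟨e, he⟩ (Finset.mem_univ i))

variable [Fintype F]

theorem extM_isom (hF : Fintype.card F = q ^ 2) {e : Fin m → Fin n} (he : Function.Injective e)
    {A : Matrix (Fin m) (Fin m) F}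
    (hA : ∀ u v : Fin m → F, hermForm m F q (A *ᵥ u) (A *ᵥ v) = hermForm m F q u v)
    (u v : Fin n → F) :
    hermForm n F q (extM e A *ᵥ u) (extM e A *ᵥ v) = hermForm n F q u v := by
  revert u v
  rw [Cfsg.Agent.LieClassical.GUOrder.mul_map_eq_one_iff hF] at hA ⊢
  rw [extM_transpose, extM_map, ← extM_mul he, hA, extM_one]

/-- The embedding `SU m F q →* SU n F q`. -/
def ext (hF : Fintype.card F = q ^ 2) (e : Fin m → Fin n) (he : Function.Injective e) :
    SU m F q →* SU n F q where
  toFun g := mk (extM e (mat g)) (by rw [extM_det he, mat_det]) (extM_isom hF he (mat_isom g))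
  map_one' := mat_inj (by rw [mat_mk, mat_one, extM_one, mat_one])
  map_mul' g h := mat_inj (by rw [mat_mk, mat_mul, extM_mul he, mat_mul, mat_mk, mat_mk])

theorem mat_ext (hF : Fintype.card F = q ^ 2) {e : Fin m → Fin n} (he : Function.Injective e)
    (g : SU m F q) : mat (ext hF e he g) = extM e (mat g) := rfl

theorem extM_inj {e : Fin m → Fin n} (he : Function.Injective e)
    {A B : Matrix (Fin m) (Fin m) F} (h : extM e A = extM e B) : A = B := by
  have h1 : inc F e * (A - 1) * (inc F e)ᵀ = inc F e * (B - 1) * (inc F e)ᵀ := by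
    rw [extM, extM] at h
    exact add_left_cancel h
  have h2 : (inc F e)ᵀ * (inc F e * (A - 1) * (inc F e)ᵀ) * inc F e =
      (inc F e)ᵀ * (inc F e * (B - 1) * (inc F e)ᵀ) * inc F e := by rw [h1]
  have h3 : ∀ X : Matrix (Fin m) (Fin m) F,
      (inc F e)ᵀ * (inc F e * X * (inc F e)ᵀ) * inc F e = X := by
    intro X
    calc (inc F e)ᵀ * (inc F e * X * (inc F e)ᵀ) * inc F e
        = ((inc F e)ᵀ * inc F e) * X * ((inc F e)ᵀ * inc F e) := by simp only [Matrix.mul_assoc]
      _ = X := by rw [incT_mul_inc he, Matrix.one_mul, Matrix.mul_one]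
  rw [h3, h3] at h2
  exact sub_left_injective h2

theorem ext_injective (hF : Fintype.card F = q ^ 2) {e : Fin m → Fin n}
    (he : Function.Injective e) : Function.Injective (ext hF e he) := by
  intro g h hgh
  exact mat_inj (extM_inj he (congrArg mat hgh))

theorem ext_comp (hF : Fintype.card F = q ^ 2) {e : Fin m → Fin n} (he : Function.Injective e)
    {f : Fin l → Fin m} (hf : Function.Injective f) (g : SU l F q) :
    ext hF e he (ext hF f hf g) = ext hF (e ∘ f) (he.comp hf) g :=
  mat_inj (by rw [mat_ext, mat_ext, mat_ext, extM_comp])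

theorem ext_congr (hF : Fintype.card F = q ^ 2) {e f : Fin m → Fin n} (he : Function.Injective e)
    (hf : Function.Injective f) (h : e = f) (g : SU m F q) : ext hF e he g = ext hF f hf g := by
  subst h; rfl

theorem ext_comm (hF : Fintype.card F = q ^ 2) {e : Fin m → Fin n} (he : Function.Injective e)
    {f : Fin l → Fin n} (hf : Function.Injective f) (h : ∀ i j, e i ≠ f j) (g : SU m F q)
    (g' : SU l F q) : ext hF e he g * ext hF f hf g' = ext hF f hf g' * ext hF e he g :=
  mat_inj (by rw [mat_mul, mat_mul, mat_ext, mat_ext, extM_comm h])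

/-! ### shifts -/

/-- `i ↦ k + i`. -/
def sh (k : ℕ) (h : k + m ≤ n) : Fin m → Fin n := fun i => ⟨k + i, by omega⟩

theorem sh_injective (k : ℕ) (h : k + m ≤ n) : Function.Injective (sh k h : Fin m → Fin n) := by
  intro i j hij
  have := congrArg Fin.val hij
  simp only [sh] at this
  exact Fin.ext (by omega)

theorem sh_val (k : ℕ) (h : k + m ≤ n) (i : Fin m) : ((sh k h i : Fin n) : ℕ) = k + i := rfl

/-- The embedding of `SU m` on the coordinates `k, k + 1, …, k + m - 1`. -/
def emb (hF : Fintype.card F = q ^ 2) (k : ℕ) (h : k + m ≤ n) : SU m F q →* SU n F q :=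
  ext hF (sh k h) (sh_injective k h)

theorem emb_injective (hF : Fintype.card F = q ^ 2) (k : ℕ) (h : k + m ≤ n) :
    Function.Injective (emb hF k h : SU m F q →* SU n F q) := ext_injective hF _

theorem emb_emb (hF : Fintype.card F = q ^ 2) {k k' : ℕ} (h : k + m ≤ n) (h' : k' + l ≤ m)
    (g : SU l F q) :
    emb hF k h (emb hF k' h' g) = emb hF (k + k') (by omega) g := by
  rw [emb, emb, ext_comp]
  refine ext_congr hF _ _ ?_ g
  funext i
  apply Fin.ext
  simp only [Function.comp_apply, sh_val]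
  omega

theorem emb_congr (hF : Fintype.card F = q ^ 2) {k k' : ℕ} (h : k + m ≤ n) (h' : k' + m ≤ n)
    (e : k = k') (g : SU m F q) : emb hF k h g = emb hF k' h' g := by
  subst e; rfl

theorem emb_comm (hF : Fintype.card F = q ^ 2) {k k' : ℕ} (h : k + m ≤ n) (h' : k' + l ≤ n)
    (hd : k + m ≤ k' ∨ k' + l ≤ k) (g : SU m F q) (g' : SU l F q) :
    emb hF k h g * emb hF k' h' g' = emb hF k' h' g' * emb hF k h g := by
  refine ext_comm hF _ _ ?_ g g'
  intro i j hij
  have := congrArg Fin.val hij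
  simp only [sh_val] at this
  omega

theorem emb_mulVec_lt (hF : Fintype.card F = q ^ 2) {k : ℕ} (h : k + m ≤ n) (g : SU m F q)
    (v : Fin n → F) {x : Fin n} (hx : (x : ℕ) < k ∨ k + m ≤ x) :
    (mat (emb hF k h g) *ᵥ v) x = v x := by
  refine extM_mulVec_of_notMem ?_ _ _
  intro i hi
  have := congrArg Fin.val hi
  rw [sh_val] at this
  omega

theorem emb_mulVec_sh (hF : Fintype.card F = q ^ 2) {k : ℕ} (h : k + m ≤ n) (g : SU m F q)
    (v : Fin n → F) (i : Fin m) :
    (mat (emb hF k h g) *ᵥ v) (sh k h i) = (mat g *ᵥ (v ∘ sh k h)) i :=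
  extM_mulVec (sh_injective k h) _ _ _

end Cfsg.Agent.Phan
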