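import Cfsg.Agent.Phan.Amalgam
import Cfsg.Agent.LieClassical.HermPerfect
set_option linter.all false

/-!
# Recognition of `PSU n F q` from a Phan amalgam

`exists_hom_of_amalgam` : from the `ψ k : SU 3 F q →* H`, `q` odd, `q ≥ 5`.
`nonempty_psu` : a simple group generated by the images is `PSU n F q`.
-/

set_option autoImplicit false

namespace Cfsg.Agent.Phan

open Matrix Cfsg
open Cfsg.Agent.LieClassical.HermBasic

variable {F : Type*} [Field F] {q : ℕ} [Fintype F]

/-- A basis vector. -/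
def pe (n : ℕ) (F : Type*) [Field F] (q : ℕ) (i : Fin n) : Pt n F q where
  val := Pi.single i 1
  norm := by rw [herm_single_left, Pi.single_eq_same, one_pow, mul_one]

/-- A central element fixing a unit vector is trivial. -/
theorem eq_one_of_center_fix (hF : Fintype.card F = q ^ 2) {n : ℕ} {z : SU (n + 2) F q}
    (hz : ∀ g : SU (n + 2) F q, g * z = z * g) (p : Pt (n + 2) F q) (hp : z • p = p) : z = 1 := by
  have h1 : ∀ r : Pt (n + 2) F q, z • r = r := by
    intro r
    obtain ⟨g, rfl⟩ := exists_su_smul hF p r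
    rw [← mul_smul, ← hz, mul_smul, hp]
  apply mat_inj
  rw [mat_one]
  apply Matrix.ext_of_mulVec_single
  intro j
  have h2 := congrArg Pt.val (h1 (pe (n + 2) F q j))
  rw [Matrix.one_mulVec]
  exact h2

/-- embeddings fix the other basis vectors -/
theorem emb_smul_pe (hF : Fintype.card F = q ^ 2) {m n : ℕ} (k : ℕ) (h : k + m ≤ n)
    (x : SU m F q) {i : Fin n} (hi : (i : ℕ) < k ∨ k + m ≤ i) :
    emb hF k h x • pe n F q i = pe n F q i := by
  apply Pt.ext'
  rw [smul_val]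
  change mat (emb hF k h x) *ᵥ (Pi.single i 1) = Pi.single i 1
  funext y
  rw [Matrix.mulVec_single_one]
  change extM (sh k h) (mat x) y i = _
  rw [extM_apply_right (sh_injective k h), Matrix.one_apply, Pi.single_apply]
  intro j hj
  have := congrArg Fin.val hj
  rw [sh_val] at this
  omega

theorem two_ne_zero_of_odd (hF : Fintype.card F = q ^ 2) (hodd : Odd q) : (2 : F) ≠ 0 := by
  intro h
  have h1 : ((Fintype.card F : ℕ) : F) = 0 := FiniteField.cast_card_eq_zero F
  rw [hF] at h1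
  obtain ⟨m, hm⟩ := (hodd.pow (n := 2))
  rw [hm] at h1
  push_cast at h1
  rw [h, zero_mul, zero_add] at h1
  exact one_ne_zero h1

/-- `-1` in `SU 2` -/
def negOne (hF : Fintype.card F = q ^ 2) : SU 2 F q :=
  tor hF (-1) (by rw [neg_pow_q hF, one_pow]; ring)

theorem mat_negOne (hF : Fintype.card F = q ^ 2) : mat (negOne hF) = -1 := by
  rw [negOne, mat_tor, neg_pow_q hF, one_pow]
  ext i j
  fin_cases i <;> fin_cases j <;> simp

theorem emb_neg_smul (hF : Fintype.card F = q ^ 2) (v : Fin 3 → F) :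
    mat (emb hF 1 (by omega : 1 + 2 ≤ 3) (negOne hF)) *ᵥ v = ![v 0, -v 1, -v 2] := by
  rw [emb_one_mulVec (n := 2), mat_negOne]
  funext i
  fin_cases i
  · rfl
  · simp [Matrix.neg_mulVec]
  · simp [Matrix.neg_mulVec]
    rfl

theorem mat_emb_neg (hF : Fintype.card F = q ^ 2) :
    mat (emb hF 1 (by omega : 1 + 2 ≤ 3) (negOne hF)) = Matrix.diagonal ![1, -1, -1] := by
  apply Matrix.ext_of_mulVec_single
  intro j
  rw [emb_neg_smul]
  funext i
  rw [Matrix.mulVec_diagonal]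
  fin_cases i
  · simp
  · simp
  · simp

/-- a diagonal element commutes -/
theorem commute_emb_of_isDiag (hF : Fintype.card F = q ^ 2) {y : SU 2 F q} (hy : IsDiag y) :
    Commute (emb hF 1 (by omega : 1 + 2 ≤ 3) y) (emb hF 0 (by omega : 0 + 2 ≤ 3) (negOne hF)) := by
  apply mat_inj
  rw [mat_mul, mat_mul]
  have h0 : ∀ i j : Fin 2, mat (emb hF 0 (by omega : 0 + 2 ≤ 3) (negOne hF))
      (sh 0 (by omega : 0 + 2 ≤ 3) i) (sh 0 (by omega : 0 + 2 ≤ 3) j) = mat (negOne hF) i j :=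
    fun i j => extM_apply (sh_injective 0 _) _ i j
  have e1 : mat (emb hF 0 (by omega : 0 + 2 ≤ 3) (negOne hF)) =
      Matrix.diagonal ![-1, -1, 1] := by
    ext a b
    have hr : ∀ a : Fin 3, mat (emb hF 0 (by omega : 0 + 2 ≤ 3) (negOne hF)) a 2 =
        (1 : Matrix (Fin 3) (Fin 3) F) a 2 := by
      intro a
      refine extM_apply_right (sh_injective 0 _) ?_ _ a
      intro i hi
      have := congrArg Fin.val hi
      rw [sh_val] at this
      simp at this
      omega
    have hl : ∀ b : Fin 3, mat (emb hF 0 (by omega : 0 + 2 ≤ 3) (negOne hF)) 2 b =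
        (1 : Matrix (Fin 3) (Fin 3) F) 2 b := by
      intro b
      refine extM_apply_left ?_ _ b
      intro i hi
      have := congrArg Fin.val hi
      rw [sh_val] at this
      simp at this
      omega
    have s0 : (sh 0 (by omega : 0 + 2 ≤ 3) 0 : Fin 3) = 0 := rfl
    have s1 : (sh 0 (by omega : 0 + 2 ≤ 3) 1 : Fin 3) = 1 := rfl
    have h00 := h0 0 0
    have h01 := h0 0 1
    have h10 := h0 1 0
    have h11 := h0 1 1
    rw [s0, mat_negOne] at h00
    rw [s0, s1, mat_negOne] at h01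
    rw [s0, s1, mat_negOne] at h10
    rw [s1, mat_negOne] at h11
    fin_cases a <;> fin_cases b
    · simpa using h00
    · simpa using h01
    · simpa using hr 0
    · simpa using h10
    · simpa using h11
    · simpa using hr 1
    · simpa using hl 0
    · simpa using hl 1
    · simpa using hr 2
  have e2 : mat (emb hF 1 (by omega : 1 + 2 ≤ 3) y) =
      Matrix.diagonal ![1, mat y 0 0, mat y 1 1] := by
    apply Matrix.ext_of_mulVec_single
    intro j
    rw [emb_one_mulVec (n := 2)]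
    funext i
    rw [Matrix.mulVec_diagonal]
    fin_cases i
    · simp
    · simp only [Fin.mk_one, Matrix.cons_val_one]
      change (mat y *ᵥ fun j_1 => (Pi.single j 1 : Fin 3 → F) j_1.succ) 0 = _
      rw [Matrix.mulVec, dotProduct, Fin.sum_univ_two, hy.1, zero_mul, add_zero]
      rfl
    · change (mat y *ᵥ fun j_1 => (Pi.single j 1 : Fin 3 → F) j_1.succ) 1 = _
      rw [Matrix.mulVec, dotProduct, Fin.sum_univ_two, hy.2, zero_mul, zero_add]
      rfl
  rw [e1, e2, Matrix.diagonal_mul_diagonal, Matrix.diagonal_mul_diagonal]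
  congr 1
  funext i
  exact mul_comm _ _

/-- an element of the first `SU 2` commuting with `diag(1,-1,-1)` is diagonal -/
theorem isDiag_of_commute (hF : Fintype.card F = q ^ 2) (hodd : Odd q) {z : SU 2 F q}
    (h : Commute (emb hF 0 (by omega : 0 + 2 ≤ 3) z)
      (emb hF 1 (by omega : 1 + 2 ≤ 3) (negOne hF))) : IsDiag z := by
  have h1 := congrArg mat h.eq
  rw [mat_mul, mat_mul, mat_emb_neg] at h1
  have h2 := two_ne_zero_of_odd hF hodd
  have s0 : (sh 0 (by omega : 0 + 2 ≤ 3) 0 : Fin 3) = 0 := rfl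
  have s1 : (sh 0 (by omega : 0 + 2 ≤ 3) 1 : Fin 3) = 1 := rfl
  have h0 : ∀ i j : Fin 2, mat (emb hF 0 (by omega : 0 + 2 ≤ 3) z)
      (sh 0 (by omega : 0 + 2 ≤ 3) i) (sh 0 (by omega : 0 + 2 ≤ 3) j) = mat z i j :=
    fun i j => extM_apply (sh_injective 0 _) _ i j
  constructor
  · have h3 := congrFun (congrFun h1 0) 1
    rw [Matrix.mul_diagonal, Matrix.diagonal_mul] at h3
    have h4 := h0 0 1
    rw [s0, s1] at h4
    rw [h4] at h3
    simp at h3
    have h5 : (2 : F) * mat z 0 1 = 0 := by linear_combination -h3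
    exact (mul_eq_zero.1 h5).resolve_left h2
  · have h3 := congrFun (congrFun h1 1) 0
    rw [Matrix.mul_diagonal, Matrix.diagonal_mul] at h3
    have h4 := h0 1 0
    rw [s0, s1] at h4
    rw [h4] at h3
    simp at h3
    have h5 : (2 : F) * mat z 1 0 = 0 := by linear_combination h3
    exact (mul_eq_zero.1 h5).resolve_left h2

/-- The hypotheses of the recognition theorem. -/
structure PsiSystem (hF : Fintype.card F = q ^ 2) (n : ℕ) {H : Type*} [Group H]
    (ψ : ℕ → (SU 3 F q →* H)) : Prop where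
  /-- the kernels are central -/
  ker : ∀ k, k + 3 ≤ n → (ψ k).ker ≤ Subgroup.center (SU 3 F q)
  range : ∀ k, k + 4 ≤ n → ((ψ k).comp (emb hF 1 (by omega : 1 + 2 ≤ 3))).range =
      ((ψ (k + 1)).comp (emb hF 0 (by omega : 0 + 2 ≤ 3))).range
  comm : ∀ i j a b, i + 3 ≤ n → j + 3 ≤ n → ∀ (ha : a + 2 ≤ 3) (hb : b + 2 ≤ 3),
      i + a + 2 ≤ j + b → ∀ x y : SU 2 F q,
      Commute (ψ i (emb hF a ha x)) (ψ j (emb hF b hb y))
  /-- `t_{k,k+1} t_{k+2,k+3}` centralises `K_{k+1,k+2}` -/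
  inv : ∀ k, k + 4 ≤ n → ∀ x : SU 2 F q,
    Commute (ψ k (emb hF 0 (by omega : 0 + 2 ≤ 3) (negOne hF)) *
      ψ (k + 1) (emb hF 1 (by omega : 1 + 2 ≤ 3) (negOne hF)))
      (ψ k (emb hF 1 (by omega : 1 + 2 ≤ 3) x))

theorem PsiSystem.inj (hF : Fintype.card F = q ^ 2) {n : ℕ} {H : Type*} [Group H]
    {ψ : ℕ → (SU 3 F q →* H)} (h : PsiSystem hF n ψ) {k : ℕ} (hk : k + 3 ≤ n) {a : ℕ}
    (ha : a + 2 ≤ 3) : Function.Injective ((ψ k).comp (emb hF a ha)) := by
  rw [injective_iff_map_eq_one]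
  intro x hx
  have h1 : emb hF a ha x ∈ Subgroup.center (SU 3 F q) := h.ker k hk hx
  have h2 : emb hF a ha x = 1 := by
    obtain ⟨i, hi⟩ : ∃ i : Fin 3, (i : ℕ) < a ∨ a + 2 ≤ i := by
      by_cases h0 : a = 0
      · exact ⟨2, Or.inr (by rw [h0]; decide)⟩
      · exact ⟨0, Or.inl (by simp; omega)⟩
    exact eq_one_of_center_fix hF (n := 1) (fun g => Subgroup.mem_center_iff.1 h1 g)
      (pe 3 F q i) (emb_smul_pe hF a ha x hi)
  exact emb_injective hF a ha (by rw [h2, map_one])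

theorem PsiSystem.tor (hF : Fintype.card F = q ^ 2) (hodd : Odd q) {n : ℕ} {H : Type*} [Group H]
    {ψ : ℕ → (SU 3 F q →* H)} (h : PsiSystem hF n ψ) {k : ℕ} (hk : k + 4 ≤ n) (y : SU 2 F q)
    (hy : IsDiag y) : ∃ z : SU 2 F q, IsDiag z ∧
      ψ k (emb hF 1 (by omega : 1 + 2 ≤ 3) y) = ψ (k + 1) (emb hF 0 (by omega : 0 + 2 ≤ 3) z) := by
  obtain ⟨z, hz⟩ : ψ k (emb hF 1 (by omega : 1 + 2 ≤ 3) y) ∈
      ((ψ (k + 1)).comp (emb hF 0 (by omega : 0 + 2 ≤ 3))).range := by
    rw [← h.range k hk]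
    exact ⟨y, rfl⟩
  refine ⟨z, ?_, hz.symm⟩
  change ψ (k + 1) (emb hF 0 (by omega : 0 + 2 ≤ 3) z) = _ at hz
  -- commutation in `H`
  have h1 : Commute (ψ (k + 1) (emb hF 0 (by omega : 0 + 2 ≤ 3) z))
      (ψ (k + 1) (emb hF 1 (by omega : 1 + 2 ≤ 3) (negOne hF))) := by
    rw [hz]
    have h2 := (h.inv k hk y).symm
    have h3 : Commute (ψ k (emb hF 1 (by omega : 1 + 2 ≤ 3) y))
        (ψ k (emb hF 0 (by omega : 0 + 2 ≤ 3) (negOne hF))) :=
      (commute_emb_of_isDiag hF hy).map (ψ k)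
    have h4 := (h3.inv_right).mul_right h2
    rwa [inv_mul_cancel_left] at h4
  -- hence in `SU 3`
  set Z := emb hF 0 (by omega : 0 + 2 ≤ 3) z with hZ
  set m := emb hF 1 (by omega : 1 + 2 ≤ 3) (negOne hF) with hm
  have hc : Z * m * Z⁻¹ * m⁻¹ ∈ Subgroup.center (SU 3 F q) := by
    apply h.ker (k + 1) (by omega)
    rw [MonoidHom.mem_ker, map_mul, map_mul, map_mul, map_inv, map_inv, h1.eq]
    group
  have hp : (Z * m * Z⁻¹ * m⁻¹) • pe 3 F q 2 = pe 3 F q 2 := by
    have hZ2 : Z • pe 3 F q 2 = pe 3 F q 2 :=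
      emb_smul_pe hF 0 _ z (Or.inr (by decide))
    have hm2 : ∀ p : Pt 3 F q, p.val 0 = 0 → p.val 1 = 0 → (m • p).val = - p.val := by
      intro p h0 h1
      rw [smul_val, hm, emb_neg_smul]
      funext i
      fin_cases i
      · simp [h0]
      · simp
      · simp
    -- the opposite point
    have hneg : hermForm 3 F q (-(pe 3 F q 2).val) (-(pe 3 F q 2).val) = 1 := by
      rw [herm_neg_left, herm_neg_right hF, neg_neg, (pe 3 F q 2).norm]
    set r : Pt 3 F q := ⟨-(pe 3 F q 2).val, hneg⟩ with hr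
    have h20 : (pe 3 F q 2).val 0 = 0 := by
      change (Pi.single (2 : Fin 3) (1 : F) : Fin 3 → F) 0 = 0
      exact Pi.single_eq_of_ne (by decide) _
    have h21 : (pe 3 F q 2).val 1 = 0 := by
      change (Pi.single (2 : Fin 3) (1 : F) : Fin 3 → F) 1 = 0
      exact Pi.single_eq_of_ne (by decide) _
    have hmp : m • pe 3 F q 2 = r := Pt.ext' (hm2 _ h20 h21)
    have hmr : m • r = pe 3 F q 2 := by
      apply Pt.ext'
      rw [hm2 r (by rw [hr]; simp [h20]) (by rw [hr]; simp [h21]), hr]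
      simp
    have hZr : Z • r = r := by
      apply Pt.ext'
      rw [smul_val, hr]
      change mat Z *ᵥ (-(pe 3 F q 2).val) = -(pe 3 F q 2).val
      rw [Matrix.mulVec_neg, ← smul_val, hZ2]
    have e1 : m⁻¹ • pe 3 F q 2 = r := by rw [inv_smul_eq_iff, hmr]
    have e2 : Z⁻¹ • r = r := by rw [inv_smul_eq_iff, hZr]
    rw [mul_smul, mul_smul, mul_smul, e1, e2, hmr, hZ2]
  have hc1 := eq_one_of_center_fix hF (n := 1) (fun g => Subgroup.mem_center_iff.1 hc g) _ hp
  apply isDiag_of_commute hF hodd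
  change Z * m = m * Z
  rw [mul_inv_eq_one, mul_inv_eq_iff_eq_mul] at hc1
  exact hc1

/-- **The homomorphism.** -/
theorem PsiSystem.exists_hom (hF : Fintype.card F = q ^ 2) (hodd : Odd q) (hq : 5 ≤ q) {n : ℕ}
    {H : Type*} [Group H] {ψ : ℕ → (SU 3 F q →* H)} (h : PsiSystem hF (n + 3) ψ) :
    ∃ Φ : SU (n + 3) F q →* H, ∀ (k : ℕ) (hk : k + 3 ≤ n + 3),
      ∃ (τ : F ≃+* F) (d : Fin 3 → F) (hd : ∀ i, d i * d i ^ q = 1),
        ∀ x, Φ (emb hF k hk x) = ψ k (fr hF τ d hd x) := by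
  obtain ⟨φ, g, hg, hgψ⟩ := exists_system hF ψ (fun k hk => h.inj hF hk _)
    (fun k hk => h.inj hF hk _) h.range (fun k hk y hy => h.tor hF hodd hk y hy) h.comm
  obtain ⟨Φ, hΦ⟩ := System.exists_hom hF hq n hg
  refine ⟨Φ, ?_⟩
  intro k hk
  obtain ⟨τ, d, hd, e⟩ := hgψ k
  refine ⟨τ, d, hd, ?_⟩
  intro x
  rw [hΦ, e]
  rfl

/-- A simple quotient of `SU n F q` is `PSU n F q`. -/
theorem nonempty_psu_of_surjective (hF : Fintype.card F = q ^ 2) {n : ℕ} (hn : 3 ≤ n)
    (h32 : ¬ (n = 3 ∧ q = 2)) {G : Type*} [Group G] [IsSimpleGroup G] (Φ : SU n F q →* G)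
    (hΦ : Function.Surjective Φ) : Nonempty (G ≃* PSU n F q) := by
  have hperf := Cfsg.Agent.LieClassical.HermPerfect.commutator_SU_eq_top hF hn h32
  have hker : Φ.ker ≤ Subgroup.center (SU n F q) := by
    by_contra hcon
    have := Cfsg.Agent.LieClassical.HermSimple.normal_eq_top_of_perfect hF hn hperf hcon
    obtain ⟨x, hx⟩ := exists_ne (1 : G)
    obtain ⟨y, rfl⟩ := hΦ x
    apply hx
    have hy : y ∈ Φ.ker := by rw [this]; trivial
    exact hy
  have hcent : Subgroup.center (SU n F q) ≤ Φ.ker := by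
    have hmap : (Subgroup.center (SU n F q)).map Φ ≤ Subgroup.center G := by
      rintro _ ⟨z, hz, rfl⟩
      rw [Subgroup.mem_center_iff]
      intro g
      obtain ⟨y, rfl⟩ := hΦ g
      rw [← map_mul, ← map_mul, Subgroup.mem_center_iff.1 hz y]
    rcases (inferInstance : (Subgroup.center G).Normal).eq_bot_or_eq_top with h | h
    · intro z hz
      have : Φ z ∈ Subgroup.center G := hmap ⟨z, hz, rfl⟩
      rw [h, Subgroup.mem_bot] at this
      exact this
    · exfalso
      -- `G` is abelian and perfect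
      have h1 : commutator G = ⊥ := by
        rw [commutator_def, Subgroup.commutator_eq_bot_iff_le_centralizer, h.symm,
          Subgroup.centralizer_eq_top_iff_subset.2 (by rw [h])]
        exact le_top
      have h2 : commutator G = ⊤ := by
        have h3 := Subgroup.map_commutator (⊤ : Subgroup (SU n F q)) ⊤ Φ
        rw [← commutator_def, hperf, Subgroup.map_top_of_surjective Φ hΦ, ← commutator_def] at h3
        exact h3.symm
      rw [h1] at h2
      obtain ⟨x, hx⟩ := exists_ne (1 : G)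
      apply hx
      have : x ∈ (⊥ : Subgroup G) := by rw [h2]; trivial
      exact this
  have hke : Φ.ker = Subgroup.center (SU n F q) := le_antisymm hker hcent
  exact ⟨(QuotientGroup.quotientKerEquivOfSurjective Φ hΦ).symm.trans
    (QuotientGroup.quotientMulEquivOfEq hke)⟩

/-- **Recognition of `PSU n F q`.** -/
theorem PsiSystem.nonempty_psu (hF : Fintype.card F = q ^ 2) (hodd : Odd q) (hq : 5 ≤ q) {n : ℕ}
    {G : Type*} [Group G] [IsSimpleGroup G] {ψ : ℕ → (SU 3 F q →* G)}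
    (h : PsiSystem hF (n + 3) ψ)
    (hgen : ∀ M : Subgroup G, (∀ k, k + 3 ≤ n + 3 → (ψ k).range ≤ M) → M = ⊤) :
    Nonempty (G ≃* PSU (n + 3) F q) := by
  obtain ⟨Φ, hΦ⟩ := h.exists_hom hF hodd hq
  refine nonempty_psu_of_surjective hF (by omega) (by omega) Φ ?_
  rw [← MonoidHom.range_eq_top]
  apply hgen
  rintro k hk _ ⟨x, rfl⟩
  obtain ⟨τ, d, hd, e⟩ := hΦ k hk
  obtain ⟨y, rfl⟩ := fr_surjective hF τ d hd x
  exact ⟨_, e y⟩

end Cfsg.Agent.Phan
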