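import Cfsg.Agent.Phan.SU2Model
import Cfsg.Agent.ClassicalGeometry.AutPSL.Main
import Cfsg.Agent.TwoFusion.SLTwoFacts
set_option linter.all false

-- part: Phan/SU2Aut
section
/-!
# Automorphisms of `SU 2 F q`

`aut_su2` : every automorphism is `x ↦ D τ(x) D⁻¹`, `D` invertible, `τ` a field automorphism.
`aut_su2_of_torus` : if it maps a diagonal element `diag(c, c⁻¹)`, `c² ≠ 1`, to a diagonal element then it is
`x ↦ diag(1,d) τ(x) diag(1,d)⁻¹` with `d ^ (q+1) = 1`.
-/

set_option autoImplicit false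

namespace Cfsg.Agent.Phan

open Matrix Cfsg
open Cfsg.Agent.LieClassical.HermBasic
open Cfsg.Agent.ClassicalGeometry.AutPSL.Root Cfsg.Agent.ClassicalGeometry.AutPSL.Auto
  Cfsg.Agent.ClassicalGeometry.AutPSL.Main

section SL

variable {K : Type*} [Field K] [Fintype K]

theorem center_pow_card {z : SpecialLinearGroup (Fin 2) K}
    (hz : z ∈ Subgroup.center (SpecialLinearGroup (Fin 2) K)) (h : z ^ Fintype.card K = 1) :
    z = 1 := by
  rw [Matrix.SpecialLinearGroup.mem_center_iff] at hz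
  obtain ⟨c, -, hc⟩ := hz
  have h1 : (z : Matrix (Fin 2) (Fin 2) K) ^ Fintype.card K = 1 := by
    have := congrArg Subtype.val h
    simpa using this
  rw [← hc, ← map_pow, FiniteField.pow_card] at h1
  apply Subtype.ext
  rw [← hc, h1]
  rfl

/-- Automorphisms of `SL 2`. -/
theorem aut_sl2 (α : MulAut (SpecialLinearGroup (Fin 2) K)) :
    ∃ (A : GL (Fin 2) K) (σ : K ≃+* K), ∀ M, α M = cj A (fld σ M) := by
  classical
  obtain ⟨p, hp⟩ := CharP.exists K
  have hpp : Fact p.Prime := ⟨(CharP.char_is_prime_or_zero K p).resolve_right (by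
    rintro rfl
    exact (CharP.char_ne_zero_of_finite K 0) rfl)⟩
  obtain ⟨A, σ, hA⟩ := surj_two p (lift α)
  refine ⟨A, σ, ?_⟩
  set β : MulAut (SpecialLinearGroup (Fin 2) K) := cj A * fld σ with hβ
  have hpr : ∀ M, pr (α M) = pr (β M) := by
    intro M
    rw [← lift_pr, ← lift_pr, hA]
  have key : ∀ M, α M = β M := by
    intro M
    refine Cfsg.Agent.LieClassical.SLGen.transvection_induction
      (fun M => α M = β M) (fun i j hij c => ?_) (fun M N hM hN => ?_) M
    · set T := Matrix.SpecialLinearGroup.transvection hij c with hT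
      have hz : α T * (β T)⁻¹ ∈ Subgroup.center (SpecialLinearGroup (Fin 2) K) := by
        rw [← pr_eq_one_iff, map_mul, map_inv, hpr, mul_inv_cancel]
      have hTk : T ^ Fintype.card K = 1 :=
        Cfsg.Agent.TwoFusion.SLTwoFacts.transvection_pow_card hij c
      have hpow : (α T * (β T)⁻¹) ^ Fintype.card K = 1 := by
        have hcomm : Commute (α T * (β T)⁻¹) (β T) := (Subgroup.mem_center_iff.1 hz _).symm
        have h1 : (α T) ^ Fintype.card K = 1 := by rw [← map_pow, hTk, map_one]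
        have h2 : (β T) ^ Fintype.card K = 1 := by rw [← map_pow, hTk, map_one]
        have h3 : α T = (α T * (β T)⁻¹) * β T := by group
        rw [h3, hcomm.mul_pow, h2, mul_one] at h1
        exact h1
      have := center_pow_card hz hpow
      exact mul_inv_eq_one.1 this
    · rw [map_mul, map_mul, hM, hN]
  exact key

end SL

variable {F : Type*} [Field F] {q : ℕ} [Fintype F]

/-- Automorphisms of `SU 2`. -/
theorem aut_su2 (hF : Fintype.card F = q ^ 2) (δ : SU 2 F q ≃* SU 2 F q) :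
    ∃ (D E : Matrix (Fin 2) (Fin 2) F) (τ : F ≃+* F), D * E = 1 ∧ E * D = 1 ∧
      ∀ x, mat (δ x) = D * (mat x).map τ * E := by
  classical
  obtain ⟨P, Q, hPQ, hQP, θ, hθ⟩ := exists_model hF
  have : Fintype (fixedField hF) := Fintype.ofFinite _
  obtain ⟨A, σ, hA⟩ := aut_sl2 ((θ.trans δ).trans θ.symm : MulAut _)
  obtain ⟨τ, hτ⟩ := exists_extend hF σ
  set f := (fixedField hF).subtype with hf
  set A₁ : Matrix (Fin 2) (Fin 2) F := ((A : GL (Fin 2) _) : Matrix (Fin 2) (Fin 2) _).map f with hA₁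
  set A₂ : Matrix (Fin 2) (Fin 2) F :=
    ((A⁻¹ : GL (Fin 2) (fixedField hF)) : Matrix (Fin 2) (Fin 2) _).map f with hA₂
  have hA12 : A₁ * A₂ = 1 := by
    rw [hA₁, hA₂, ← Matrix.map_mul, ← Units.val_mul, mul_inv_cancel, Units.val_one,
      Matrix.map_one f (map_zero f) (map_one f)]
  have hA21 : A₂ * A₁ = 1 := by
    rw [hA₁, hA₂, ← Matrix.map_mul, ← Units.val_mul, inv_mul_cancel, Units.val_one,
      Matrix.map_one f (map_zero f) (map_one f)]
  have hPQτ : P.map τ * Q.map τ = 1 := by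
    have := congrArg (fun X : Matrix (Fin 2) (Fin 2) F => X.map (τ : F →+* F)) hPQ
    simp only [Matrix.map_mul, Matrix.map_one _ (map_zero (τ : F →+* F))
      (map_one (τ : F →+* F))] at this
    exact this
  have hQPτ : Q.map τ * P.map τ = 1 := by
    have := congrArg (fun X : Matrix (Fin 2) (Fin 2) F => X.map (τ : F →+* F)) hQP
    simp only [Matrix.map_mul, Matrix.map_one _ (map_zero (τ : F →+* F))
      (map_one (τ : F →+* F))] at this
    exact this
  refine ⟨Q * A₁ * P.map τ, Q.map τ * A₂ * P, τ, ?_, ?_, ?_⟩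
  · calc Q * A₁ * P.map τ * (Q.map τ * A₂ * P)
        = Q * A₁ * (P.map τ * Q.map τ) * A₂ * P := by simp only [Matrix.mul_assoc]
      _ = Q * (A₁ * A₂) * P := by rw [hPQτ, Matrix.mul_one]; simp only [Matrix.mul_assoc]
      _ = 1 := by rw [hA12, Matrix.mul_one, hQP]
  · calc Q.map τ * A₂ * P * (Q * A₁ * P.map τ)
        = Q.map τ * A₂ * (P * Q) * A₁ * P.map τ := by simp only [Matrix.mul_assoc]
      _ = Q.map τ * (A₂ * A₁) * P.map τ := by rw [hPQ, Matrix.mul_one]; simp only [Matrix.mul_assoc]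
      _ = 1 := by rw [hA21, Matrix.mul_one, hQPτ]
  · intro x
    obtain ⟨M, rfl⟩ := θ.surjective x
    have h1 : δ (θ M) = θ (cj A (fld σ M)) := by
      rw [← hA]
      change δ (θ M) = θ (θ.symm (δ (θ M)))
      rw [θ.apply_symm_apply]
    rw [h1, hθ, hθ, coe_cj, Matrix.map_mul, Matrix.map_mul]
    have h2 : ((fld σ M : SpecialLinearGroup (Fin 2) (fixedField hF)) :
        Matrix (Fin 2) (Fin 2) (fixedField hF)).map f =
        ((M : Matrix (Fin 2) (Fin 2) (fixedField hF)).map f).map τ := by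
      ext i j
      exact (hτ _).symm
    have h3 : (Q * (M : Matrix (Fin 2) (Fin 2) (fixedField hF)).map f * P).map τ =
        Q.map τ * ((M : Matrix (Fin 2) (Fin 2) (fixedField hF)).map f).map τ * P.map τ := by
      change (Q * (M : Matrix (Fin 2) (Fin 2) (fixedField hF)).map f * P).map (τ : F →+* F) =
        Q.map (τ : F →+* F) * ((M : Matrix (Fin 2) (Fin 2) (fixedField hF)).map f).map
          (τ : F →+* F) * P.map (τ : F →+* F)
      rw [Matrix.map_mul, Matrix.map_mul]
    rw [h2, h3]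
    set N := ((M : Matrix (Fin 2) (Fin 2) (fixedField hF)).map f).map τ with hN
    calc Q * (A₁ * N * A₂) * P = Q * A₁ * 1 * N * 1 * A₂ * P := by
          simp only [Matrix.mul_assoc, Matrix.one_mul]
      _ = Q * A₁ * P.map τ * (Q.map τ * N * P.map τ) * (Q.map τ * A₂ * P) := by
          rw [← hPQτ]; simp only [Matrix.mul_assoc]

/-- The elements `diag(c, c^q)`. -/
def tor (hF : Fintype.card F = q ^ 2) (c : F) (h : c * c ^ q = 1) : SU 2 F q :=
  su2 hF c 0 (by rw [h, zero_mul, add_zero])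

theorem mat_tor (hF : Fintype.card F = q ^ 2) (c : F) (h : c * c ^ q = 1) :
    mat (tor hF c h) = !![c, 0; 0, c ^ q] := by
  rw [tor, mat_su2, zero_pow_q hF, neg_zero]

theorem mem_iff (hF : Fintype.card F = q ^ 2) (x : SU 2 F q) :
    (mat x 0 0) ^ q = mat x 1 1 ∧ (mat x 0 1) ^ q = - mat x 1 0 :=
  (S0281.mem_SU_two_iff hF _).1 x.2

/-- **Automorphisms of `SU 2` preserving the frame.** -/
theorem aut_su2_of_torus (hF : Fintype.card F = q ^ 2) (δ : SU 2 F q ≃* SU 2 F q) (c : F)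
    (hc : c * c ^ q = 1) (hc2 : c * c ≠ 1) (h01 : mat (δ (tor hF c hc)) 0 1 = 0)
    (h10 : mat (δ (tor hF c hc)) 1 0 = 0) :
    ∃ (τ : F ≃+* F) (d : F), d * d ^ q = 1 ∧ ∀ x, mat (δ x) =
      !![τ (mat x 0 0), d⁻¹ * τ (mat x 0 1); d * τ (mat x 1 0), τ (mat x 1 1)] := by
  obtain ⟨D, E, τ, hDE, hED, hδ⟩ := aut_su2 hF δ
  have hc0 : c ≠ 0 := by rintro rfl; rw [zero_mul] at hc; exact zero_ne_one hc
  have hcq : c ^ q = c⁻¹ := eq_inv_of_mul_eq_one_right hc
  have hτc : τ c ≠ τ c⁻¹ := by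
    intro h
    have := τ.injective h
    apply hc2
    nth_rw 2 [this]
    exact mul_inv_cancel₀ hc0
  -- the commutation with the torus element
  have hDdet : D.det ≠ 0 := by
    intro h
    have := congrArg Matrix.det hDE
    rw [Matrix.det_mul, h, zero_mul, Matrix.det_one] at this
    exact zero_ne_one this
  have h1 : mat (δ (tor hF c hc)) * D = D * (mat (tor hF c hc)).map τ := by
    rw [hδ, Matrix.mul_assoc, hED, Matrix.mul_one]
  set m := mat (δ (tor hF c hc)) with hm
  have e00 := congrFun (congrFun h1 0) 0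
  have e01 := congrFun (congrFun h1 0) 1
  have e10 := congrFun (congrFun h1 1) 0
  have e11 := congrFun (congrFun h1 1) 1
  rw [mat_tor] at e00 e01 e10 e11
  simp only [Matrix.mul_apply, Fin.sum_univ_two, Matrix.map_apply, Matrix.of_apply,
    Matrix.cons_val', Matrix.cons_val_zero, Matrix.cons_val_one, Matrix.cons_val_fin_one,
    h01, h10, map_zero, mul_zero, zero_mul, add_zero, zero_add, hcq] at e00 e01 e10 e11
  -- e00 : m00 D00 = D00 τ c ; e01 : m00 D01 = D01 τ c⁻¹ ; e10 : m11 D10 = D10 τ c ; e11 : m11 D11 = D11 τ c⁻¹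
  rw [Matrix.det_fin_two] at hDdet
  have hdich : (D 0 1 = 0 ∧ D 1 0 = 0) ∨ (D 0 0 = 0 ∧ D 1 1 = 0) := by
    by_cases h00 : D 0 0 = 0
    · right
      refine ⟨h00, ?_⟩
      have hD01 : D 0 1 ≠ 0 := by
        intro h; apply hDdet; rw [h00, h]; ring
      have hD10 : D 1 0 ≠ 0 := by
        intro h; apply hDdet; rw [h00, h]; ring
      have hm11 : m 1 1 = τ c := by
        have : m 1 1 * D 1 0 = τ c * D 1 0 := by rw [e10, mul_comm]
        exact mul_right_cancel₀ hD10 this
      by_contra hD11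
      have : m 1 1 * D 1 1 = τ c⁻¹ * D 1 1 := by rw [e11, mul_comm]
      have h2 := mul_right_cancel₀ hD11 this
      exact hτc (hm11.symm.trans h2)
    · left
      have hm00 : m 0 0 = τ c := by
        have : m 0 0 * D 0 0 = τ c * D 0 0 := by rw [e00, mul_comm]
        exact mul_right_cancel₀ h00 this
      have hD01 : D 0 1 = 0 := by
        by_contra hne
        have : m 0 0 * D 0 1 = τ c⁻¹ * D 0 1 := by rw [e01, mul_comm]
        have h2 := mul_right_cancel₀ hne this
        exact hτc (hm00.symm.trans h2)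
      refine ⟨hD01, ?_⟩
      have hD11 : D 1 1 ≠ 0 := by
        intro h; apply hDdet; rw [hD01, h]; ring
      have hm11 : m 1 1 = τ c⁻¹ := by
        have : m 1 1 * D 1 1 = τ c⁻¹ * D 1 1 := by rw [e11, mul_comm]
        exact mul_right_cancel₀ hD11 this
      by_contra hne
      have : m 1 1 * D 1 0 = τ c * D 1 0 := by rw [e10, mul_comm]
      have h2 := mul_right_cancel₀ hne this
      exact hτc (h2.symm.trans hm11)
  -- the Weyl element
  have hw : (0 : F) * 0 ^ q + 1 * 1 ^ q = 1 := by simp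
  have hτq : ∀ x : F, τ (x ^ q) = τ x ^ q := fun x => map_pow τ x q
  rcases hdich with ⟨hD01, hD10⟩ | ⟨hD00, hD11⟩
  · have hD00 : D 0 0 ≠ 0 := by intro h; apply hDdet; rw [hD01, h]; ring
    have hD11 : D 1 1 ≠ 0 := by intro h; apply hDdet; rw [hD01, h]; ring
    -- the inverse
    have hE : E = !![(D 0 0)⁻¹, 0; 0, (D 1 1)⁻¹] := by
      have hD : D * !![(D 0 0)⁻¹, 0; 0, (D 1 1)⁻¹] = 1 := by
        ext i j
        fin_cases i <;> fin_cases j <;>
          simp [Matrix.mul_apply, Fin.sum_univ_two, hD01, hD10, hD00, hD11]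
      calc E = E * (D * !![(D 0 0)⁻¹, 0; 0, (D 1 1)⁻¹]) := by rw [hD, Matrix.mul_one]
        _ = _ := by rw [← Matrix.mul_assoc, hED, Matrix.one_mul]
    have hform : ∀ x, mat (δ x) = !![τ (mat x 0 0), (D 1 1 * (D 0 0)⁻¹)⁻¹ * τ (mat x 0 1);
        (D 1 1 * (D 0 0)⁻¹) * τ (mat x 1 0), τ (mat x 1 1)] := by
      intro x
      rw [hδ, hE]
      ext i j
      fin_cases i <;> fin_cases j <;>
        simp [Matrix.mul_apply, Fin.sum_univ_two, hD01, hD10]
      · field_simp
      · field_simp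
      · field_simp
      · field_simp
    refine ⟨τ, D 1 1 * (D 0 0)⁻¹, ?_, hform⟩
    have h2 := (mem_iff hF (δ (su2 hF 0 1 hw))).2
    rw [hform, mat_su2] at h2
    simp only [Matrix.of_apply, Matrix.cons_val', Matrix.cons_val_zero, Matrix.cons_val_one,
      Matrix.cons_val_fin_one, one_pow, map_neg, map_one, mul_neg, mul_one, neg_pow_q hF,
      neg_inj, inv_pow] at h2
    set d := D 1 1 * (D 0 0)⁻¹ with hd
    have hd0 : d ≠ 0 := mul_ne_zero hD11 (inv_ne_zero hD00)
    calc d * d ^ q = (d ^ q)⁻¹ * d ^ q := by rw [h2]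
      _ = 1 := inv_mul_cancel₀ (pow_ne_zero _ hd0)
  · have hD01 : D 0 1 ≠ 0 := by intro h; apply hDdet; rw [hD00, h]; ring
    have hD10 : D 1 0 ≠ 0 := by intro h; apply hDdet; rw [hD00, h]; ring
    have hE : E = !![0, (D 1 0)⁻¹; (D 0 1)⁻¹, 0] := by
      have hD : D * !![0, (D 1 0)⁻¹; (D 0 1)⁻¹, 0] = 1 := by
        ext i j
        fin_cases i <;> fin_cases j <;>
          simp [Matrix.mul_apply, Fin.sum_univ_two, hD01, hD10, hD00, hD11]
      calc E = E * (D * !![0, (D 1 0)⁻¹; (D 0 1)⁻¹, 0]) := by rw [hD, Matrix.mul_one]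
        _ = _ := by rw [← Matrix.mul_assoc, hED, Matrix.one_mul]
    -- `τ' = τ ∘ conj`
    set τ' : F ≃+* F := (conj hF).trans τ with hτ'
    have hτ'a : ∀ x, τ' x = τ (x ^ q) := fun x => rfl
    have hform : ∀ x, mat (δ x) = !![τ' (mat x 0 0), (-(D 1 0 * (D 0 1)⁻¹))⁻¹ * τ' (mat x 0 1);
        (-(D 1 0 * (D 0 1)⁻¹)) * τ' (mat x 1 0), τ' (mat x 1 1)] := by
      intro x
      obtain ⟨hx1, hx2⟩ := mem_iff hF x
      have hx3 : (mat x 1 1) ^ q = mat x 0 0 := by rw [← hx1, pow_q_pow_q hF]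
      have hx4 : (mat x 1 0) ^ q = - mat x 0 1 := by
        have : mat x 1 0 = -(mat x 0 1) ^ q := by rw [hx2, neg_neg]
        rw [this, neg_pow_q hF, pow_q_pow_q hF]
      rw [hδ, hE]
      ext i j
      fin_cases i <;> fin_cases j <;>
        simp [Matrix.mul_apply, Fin.sum_univ_two, hD00, hD11, hτ'a, hx1, hx2, hx3, hx4,
          -map_pow]
      · field_simp
      · field_simp
      · field_simp
      · field_simp
    refine ⟨τ', -(D 1 0 * (D 0 1)⁻¹), ?_, hform⟩
    have h2 := (mem_iff hF (δ (su2 hF 0 1 hw))).2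
    rw [hform, mat_su2] at h2
    simp only [Matrix.of_apply, Matrix.cons_val', Matrix.cons_val_zero, Matrix.cons_val_one,
      Matrix.cons_val_fin_one, one_pow, map_neg, map_one, mul_neg, mul_one, neg_pow_q hF,
      neg_inj, inv_pow] at h2
    set d := -(D 1 0 * (D 0 1)⁻¹) with hd
    have hd0 : d ≠ 0 := neg_ne_zero.2 (mul_ne_zero hD10 (inv_ne_zero hD01))
    have h3 : d ^ q = -(D 1 0 * (D 0 1)⁻¹) ^ q := by rw [hd, neg_pow_q hF]
    rw [← h3] at h2
    calc d * d ^ q = (d ^ q)⁻¹ * d ^ q := by rw [h2]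
      _ = 1 := inv_mul_cancel₀ (pow_ne_zero _ hd0)

end Cfsg.Agent.Phan
end

-- part: Phan/Frame
section
/-!
# Frame automorphisms of `SU n F q`: diagonal matrices and field automorphisms
-/

set_option autoImplicit false

namespace Cfsg.Agent.Phan

open Matrix Cfsg
open Cfsg.Agent.LieClassical.HermBasic

variable {F : Type*} [Field F] {q : ℕ}

/-- `x ↦ diag(d) τ(x) diag(d)⁻¹` on matrices. -/
def frM {n : ℕ} (τ : F ≃+* F) (d : Fin n → F) (A : Matrix (Fin n) (Fin n) F) :
    Matrix (Fin n) (Fin n) F :=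
  Matrix.diagonal d * A.map τ * Matrix.diagonal (fun i => (d i)⁻¹)

theorem frM_apply {n : ℕ} (τ : F ≃+* F) (d : Fin n → F) (A : Matrix (Fin n) (Fin n) F)
    (i j : Fin n) : frM τ d A i j = d i * τ (A i j) * (d j)⁻¹ := by
  rw [frM, Matrix.mul_diagonal, Matrix.diagonal_mul, Matrix.map_apply]

theorem diag_mul_inv {n : ℕ} {d : Fin n → F} (hd : ∀ i, d i ≠ 0) :
    Matrix.diagonal (fun i => (d i)⁻¹) * Matrix.diagonal d = 1 := by
  rw [Matrix.diagonal_mul_diagonal, ← Matrix.diagonal_one]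
  congr 1
  funext i
  exact inv_mul_cancel₀ (hd i)

theorem diag_mul_inv' {n : ℕ} {d : Fin n → F} (hd : ∀ i, d i ≠ 0) :
    Matrix.diagonal d * Matrix.diagonal (fun i => (d i)⁻¹) = 1 := by
  rw [Matrix.diagonal_mul_diagonal, ← Matrix.diagonal_one]
  congr 1
  funext i
  exact mul_inv_cancel₀ (hd i)

theorem frM_mul {n : ℕ} (τ : F ≃+* F) {d : Fin n → F} (hd : ∀ i, d i ≠ 0)
    (A B : Matrix (Fin n) (Fin n) F) : frM τ d (A * B) = frM τ d A * frM τ d B := by
  have h : (A * B).map τ = A.map τ * B.map τ := by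
    change (A * B).map (τ : F →+* F) = A.map (τ : F →+* F) * B.map (τ : F →+* F)
    rw [Matrix.map_mul]
  rw [frM, frM, frM, h]
  calc Matrix.diagonal d * (A.map τ * B.map τ) * Matrix.diagonal (fun i => (d i)⁻¹)
      = Matrix.diagonal d * A.map τ * 1 * B.map τ * Matrix.diagonal (fun i => (d i)⁻¹) := by
        simp only [Matrix.mul_assoc, Matrix.one_mul]
    _ = _ := by rw [← diag_mul_inv hd]; simp only [Matrix.mul_assoc]

theorem frM_one {n : ℕ} (τ : F ≃+* F) {d : Fin n → F} (hd : ∀ i, d i ≠ 0) :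
    frM τ d (1 : Matrix (Fin n) (Fin n) F) = 1 := by
  rw [frM, Matrix.map_one _ (map_zero τ) (map_one τ), Matrix.mul_one, diag_mul_inv' hd]

theorem frM_det {n : ℕ} (τ : F ≃+* F) {d : Fin n → F} (hd : ∀ i, d i ≠ 0)
    (A : Matrix (Fin n) (Fin n) F) : (frM τ d A).det = τ A.det := by
  have h : (A.map τ).det = τ A.det := by
    change (A.map (τ : F →+* F)).det = (τ : F →+* F) A.det
    rw [RingHom.map_det]; rfl
  have h2 := congrArg Matrix.det (diag_mul_inv' hd)
  rw [Matrix.det_mul, Matrix.det_one] at h2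
  rw [frM, Matrix.det_mul, Matrix.det_mul, h]
  calc (Matrix.diagonal d).det * τ A.det * (Matrix.diagonal (fun i => (d i)⁻¹)).det
      = ((Matrix.diagonal d).det * (Matrix.diagonal (fun i => (d i)⁻¹)).det) * τ A.det := by ring
    _ = _ := by rw [h2, one_mul]

theorem herm_diag {n : ℕ} {d : Fin n → F} (hd : ∀ i, d i * d i ^ q = 1) (u v : Fin n → F) :
    hermForm n F q (Matrix.diagonal d *ᵥ u) (Matrix.diagonal d *ᵥ v) = hermForm n F q u v := by
  rw [herm_def, herm_def]
  refine Finset.sum_congr rfl fun i _ => ?_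
  rw [Matrix.mulVec_diagonal, Matrix.mulVec_diagonal, mul_pow]
  calc d i * u i * (d i ^ q * v i ^ q) = (d i * d i ^ q) * (u i * v i ^ q) := by ring
    _ = _ := by rw [hd, one_mul]

variable [Fintype F]

theorem frM_isom (hF : Fintype.card F = q ^ 2) {n : ℕ} (τ : F ≃+* F) {d : Fin n → F}
    (hd : ∀ i, d i * d i ^ q = 1) {A : Matrix (Fin n) (Fin n) F}
    (hA : ∀ u v, hermForm n F q (A *ᵥ u) (A *ᵥ v) = hermForm n F q u v) (u v : Fin n → F) :
    hermForm n F q (frM τ d A *ᵥ u) (frM τ d A *ᵥ v) = hermForm n F q u v := by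
  have h1 : ∀ u v, hermForm n F q (A.map τ *ᵥ u) (A.map τ *ᵥ v) = hermForm n F q u v := by
    rw [Cfsg.Agent.LieClassical.GUOrder.mul_map_eq_one_iff hF] at hA ⊢
    have h2 : (A.map τ).map (Cfsg.Agent.LieClassical.GUOrder.frob hF) =
        (A.map (Cfsg.Agent.LieClassical.GUOrder.frob hF)).map (τ : F →+* F) := by
      ext i j
      simp only [Matrix.map_apply, Cfsg.Agent.LieClassical.GUOrder.frob_apply]
      exact (map_pow τ _ _).symm
    have h3 : (A.map τ)ᵀ = (Aᵀ).map (τ : F →+* F) := by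
      rw [Matrix.transpose_map]; rfl
    rw [h2, h3, ← Matrix.map_mul, hA, Matrix.map_one _ (map_zero _) (map_one _)]
  have hd' : ∀ i, (d i)⁻¹ * (d i)⁻¹ ^ q = 1 := by
    intro i
    rw [inv_pow, ← mul_inv, hd, inv_one]
  rw [frM, ← Matrix.mulVec_mulVec, ← Matrix.mulVec_mulVec, ← Matrix.mulVec_mulVec,
    ← Matrix.mulVec_mulVec, herm_diag hd, h1, herm_diag hd']

theorem ne_zero_of_norm {x : F} (h : x * x ^ q = 1) : x ≠ 0 := by
  rintro rfl
  rw [zero_mul] at h
  exact zero_ne_one h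

/-- The frame automorphism. -/
def fr (hF : Fintype.card F = q ^ 2) {n : ℕ} (τ : F ≃+* F) (d : Fin n → F)
    (hd : ∀ i, d i * d i ^ q = 1) : SU n F q →* SU n F q where
  toFun x := mk (frM τ d (mat x))
    (by rw [frM_det τ (fun i => ne_zero_of_norm (hd i)), mat_det, map_one])
    (frM_isom hF τ hd (mat_isom x))
  map_one' := mat_inj (by
    rw [mat_mk, mat_one, frM_one τ (fun i => ne_zero_of_norm (hd i))])
  map_mul' x y := mat_inj (by
    rw [mat_mk, mat_mul, frM_mul τ (fun i => ne_zero_of_norm (hd i)), mat_mul, mat_mk, mat_mk])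

theorem mat_fr (hF : Fintype.card F = q ^ 2) {n : ℕ} (τ : F ≃+* F) (d : Fin n → F)
    (hd : ∀ i, d i * d i ^ q = 1) (x : SU n F q) : mat (fr hF τ d hd x) = frM τ d (mat x) := rfl

theorem fr_injective (hF : Fintype.card F = q ^ 2) {n : ℕ} (τ : F ≃+* F) (d : Fin n → F)
    (hd : ∀ i, d i * d i ^ q = 1) : Function.Injective (fr hF τ d hd) := by
  intro x y h
  apply mat_inj
  have h1 := congrArg mat h
  rw [mat_fr, mat_fr] at h1
  ext i j
  have h2 := congrFun (congrFun h1 i) j
  rw [frM_apply, frM_apply] at h2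
  have hi := ne_zero_of_norm (hd i)
  have hj := inv_ne_zero (ne_zero_of_norm (hd j))
  exact τ.injective (mul_left_cancel₀ hi (mul_right_cancel₀ hj h2))

theorem finite_SU (n : ℕ) : Finite (SU n F q) := by
  classical
  have h1 : Finite (Matrix (Fin n) (Fin n) F) := inferInstanceAs (Finite (Fin n → Fin n → F))
  have h2 : Finite (SpecialLinearGroup (Fin n) F) := Subtype.finite
  exact Subtype.finite

theorem fr_surjective (hF : Fintype.card F = q ^ 2) {n : ℕ} (τ : F ≃+* F) (d : Fin n → F)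
    (hd : ∀ i, d i * d i ^ q = 1) : Function.Surjective (fr hF τ d hd) := by
  have := finite_SU (F := F) (q := q) n
  exact Finite.injective_iff_surjective.1 (fr_injective hF τ d hd)

/-! ### entries of `extM` -/

omit [Fintype F] in
theorem extM_apply {m n : ℕ} {e : Fin m → Fin n} (he : Function.Injective e)
    (A : Matrix (Fin m) (Fin m) F) (i j : Fin m) : extM e A (e i) (e j) = A i j := by
  have h1 := extM_mulVec he A (Pi.single (e j) 1) i
  rw [Matrix.mulVec_single_one] at h1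
  have h2 : (Pi.single (e j) 1 : Fin n → F) ∘ e = Pi.single j 1 := by
    funext k
    rw [Function.comp_apply]
    by_cases hk : k = j
    · subst hk; rw [Pi.single_eq_same, Pi.single_eq_same]
    · rw [Pi.single_eq_of_ne hk, Pi.single_eq_of_ne (fun h => hk (he h))]
  rw [h2, Matrix.mulVec_single_one] at h1
  exact h1

omit [Fintype F] in
theorem extM_apply_left {m n : ℕ} {e : Fin m → Fin n} {x : Fin n} (h : ∀ i, x ≠ e i)
    (A : Matrix (Fin m) (Fin m) F) (y : Fin n) :
    extM e A x y = (1 : Matrix (Fin n) (Fin n) F) x y := by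
  have h1 := extM_mulVec_of_notMem h A (Pi.single y 1)
  rw [Matrix.mulVec_single_one] at h1
  rw [Matrix.one_apply]
  change extM e A x y = _ at h1
  rw [h1, Pi.single_apply]

omit [Fintype F] in
theorem extM_apply_right {m n : ℕ} {e : Fin m → Fin n} (he : Function.Injective e) {y : Fin n}
    (h : ∀ i, y ≠ e i) (A : Matrix (Fin m) (Fin m) F) (x : Fin n) :
    extM e A x y = (1 : Matrix (Fin n) (Fin n) F) x y := by
  by_cases hx : ∀ i, x ≠ e i
  · exact extM_apply_left hx A y
  · push Not at hx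
    obtain ⟨i, rfl⟩ := hx
    have h1 := extM_mulVec he A (Pi.single y 1) i
    rw [Matrix.mulVec_single_one] at h1
    have h2 : (Pi.single y 1 : Fin n → F) ∘ e = 0 := by
      funext k
      rw [Function.comp_apply, Pi.single_eq_of_ne (h k).symm, Pi.zero_apply]
    rw [h2, Matrix.mulVec_zero] at h1
    rw [Matrix.one_apply_ne (h i).symm]
    exact h1

theorem fr_ext (hF : Fintype.card F = q ^ 2) {m n : ℕ} {e : Fin m → Fin n}
    (he : Function.Injective e) (τ : F ≃+* F) (d : Fin n → F) (hd : ∀ i, d i * d i ^ q = 1)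
    (x : SU m F q) :
    fr hF τ d hd (ext hF e he x) = ext hF e he (fr hF τ (d ∘ e) (fun i => hd (e i)) x) := by
  apply mat_inj
  rw [mat_fr, mat_ext, mat_ext, mat_fr]
  ext a b
  rw [frM_apply]
  have hone : ∀ a b : Fin n, d a * τ ((1 : Matrix (Fin n) (Fin n) F) a b) * (d b)⁻¹ =
      (1 : Matrix (Fin n) (Fin n) F) a b := by
    intro a b
    by_cases hab : a = b
    · subst hab
      rw [Matrix.one_apply_eq, map_one, mul_one]
      exact mul_inv_cancel₀ (ne_zero_of_norm (hd a))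
    · rw [Matrix.one_apply_ne hab, map_zero, mul_zero, zero_mul]
  by_cases ha : ∀ i, a ≠ e i
  · rw [extM_apply_left ha, extM_apply_left ha, hone]
  · by_cases hb : ∀ i, b ≠ e i
    · rw [extM_apply_right he hb, extM_apply_right he hb, hone]
    · push Not at ha hb
      obtain ⟨i, rfl⟩ := ha
      obtain ⟨j, rfl⟩ := hb
      rw [extM_apply he, extM_apply he, frM_apply]
      rfl

theorem fr_emb (hF : Fintype.card F = q ^ 2) {m n : ℕ} (k : ℕ) (h : k + m ≤ n) (τ : F ≃+* F)
    (d : Fin n → F) (hd : ∀ i, d i * d i ^ q = 1) (x : SU m F q) :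
    fr hF τ d hd (emb hF k h x) =
      emb hF k h (fr hF τ (d ∘ sh k h) (fun i => hd (sh k h i)) x) :=
  fr_ext hF _ τ d hd x

theorem fr_congr (hF : Fintype.card F = q ^ 2) {n : ℕ} (τ : F ≃+* F) {d d' : Fin n → F}
    (hd : ∀ i, d i * d i ^ q = 1) (hd' : ∀ i, d' i * d' i ^ q = 1) (h : d = d') (x : SU n F q) :
    fr hF τ d hd x = fr hF τ d' hd' x := by
  subst h; rfl

end Cfsg.Agent.Phan
end
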