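import Cfsg.Agent.Phan.Herm
set_option linter.all false

/-!
# Neighbours of the base point, uniqueness of the decomposition
-/

set_option autoImplicit false

namespace Cfsg.Agent.Phan

open Matrix Cfsg
open Cfsg.Agent.LieClassical.HermBasic

variable {F : Type*} [Field F] {q : ℕ}

theorem herm_cons {n : ℕ} (a b : F) (u v : Fin n → F) :
    hermForm (n + 1) F q (Fin.cons a u) (Fin.cons b v) = a * b ^ q + hermForm n F q u v := by
  rw [Cfsg.Agent.LieClassical.GUOrder.herm_succ]
  simp only [Fin.cons_zero, Fin.cons_succ]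

theorem single_zero_eq_cons {n : ℕ} (a : F) :
    (Pi.single 0 a : Fin (n + 1) → F) = Fin.cons a 0 := by
  funext x
  refine Fin.cases ?_ (fun i => ?_) x
  · rw [Pi.single_eq_same, Fin.cons_zero]
  · rw [Pi.single_eq_of_ne (Fin.succ_ne_zero i), Fin.cons_succ, Pi.zero_apply]

theorem e0_val' (n : ℕ) : (e0 n F q).val = Fin.cons 1 0 := by
  rw [e0_val, single_zero_eq_cons]

variable [Fintype F]

theorem herm_zero_right' (hF : Fintype.card F = q ^ 2) {n : ℕ} (u : Fin n → F) :
    hermForm n F q u 0 = 0 := herm_zero_right hF u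

theorem herm_zero_left' {n : ℕ} (u : Fin n → F) : hermForm n F q 0 u = 0 := herm_zero_left u

theorem herm_e0_left {n : ℕ} (v : Fin (n + 1) → F) :
    hermForm (n + 1) F q (e0 n F q).val v = v 0 ^ q := by
  rw [e0_val, herm_single_left, one_mul]

theorem herm_e0_right (hF : Fintype.card F = q ^ 2) {n : ℕ} (v : Fin (n + 1) → F) :
    hermForm (n + 1) F q v (e0 n F q).val = v 0 := by
  rw [e0_val, herm_single_right hF, one_pow, mul_one]

/-- The elements of `SU 2`. -/
def su2 (hF : Fintype.card F = q ^ 2) (a b : F) (h : a * a ^ q + b * b ^ q = 1) : SU 2 F q :=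
  mk !![a, -b ^ q; b, a ^ q] (by rw [Matrix.det_fin_two_of]; rw [← h]; ring) (by
    rw [Cfsg.Agent.LieClassical.GUOrder.mul_map_eq_one_iff hF]
    ext i j
    fin_cases i <;> fin_cases j <;>
      simp [Matrix.mul_apply, Fin.sum_univ_two, Cfsg.Agent.LieClassical.GUOrder.frob_apply,
        neg_pow_q hF, pow_q_pow_q hF]
    · exact h
    · ring
    · ring
    · rw [← h]; ring)

theorem mat_su2 (hF : Fintype.card F = q ^ 2) (a b : F) (h : a * a ^ q + b * b ^ q = 1) :
    mat (su2 hF a b h) = !![a, -b ^ q; b, a ^ q] := rfl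

/-- the first column of an element of `SU 2` -/
theorem emb_zero_e0 (hF : Fintype.card F = q ^ 2) {n : ℕ} (a : SU 2 F q) :
    (emb hF 0 (by omega : 0 + 2 ≤ n + 2) a • e0 (n + 1) F q).val =
      Fin.cons (mat a 0 0) (Pi.single 0 (mat a 1 0)) := by
  have he : (e0 (n + 1) F q).val ∘ (sh 0 (by omega : 0 + 2 ≤ n + 2)) = Pi.single 0 1 := by
    funext i
    rw [Function.comp_apply, e0_val]
    refine Fin.cases ?_ (fun i => ?_) i
    · rw [Pi.single_eq_same]
      exact Pi.single_eq_same _ _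
    · rw [Pi.single_eq_of_ne (Fin.succ_ne_zero i)]
      apply Pi.single_eq_of_ne
      intro h
      have := congrArg Fin.val h
      rw [sh_val] at this
      simp at this
  have h2 : ∀ i : Fin 2, (mat (emb hF 0 (by omega : 0 + 2 ≤ n + 2) a) *ᵥ (e0 (n + 1) F q).val)
      (sh 0 (by omega) i) = mat a i 0 := by
    intro i
    rw [emb_mulVec_sh, he, Matrix.mulVec_single_one]
    rfl
  rw [smul_val]
  funext x
  refine Fin.cases ?_ (fun y => ?_) x
  · rw [Fin.cons_zero, ← h2 0]
    rfl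
  · rw [Fin.cons_succ]
    refine Fin.cases ?_ (fun z => ?_) y
    · rw [Pi.single_eq_same, ← h2 1]
      rfl
    · rw [Pi.single_eq_of_ne (Fin.succ_ne_zero z), emb_mulVec_lt, e0_val,
        Pi.single_eq_of_ne (Fin.succ_ne_zero _)]
      right
      simp

theorem norm_eq_head (hF : Fintype.card F = q ^ 2) {n : ℕ} (w : Pt (n + 1) F q) :
    w.val 0 * w.val 0 ^ q + hermForm n F q (fun j => w.val j.succ) (fun j => w.val j.succ) = 1 := by
  have h := w.norm
  rw [Cfsg.Agent.LieClassical.GUOrder.herm_succ] at h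
  exact h

theorem adj_e0_iff (hF : Fintype.card F = q ^ 2) {n : ℕ} (w : Pt (n + 1) F q) :
    adj (e0 n F q) w ↔ hermForm n F q (fun j => w.val j.succ) (fun j => w.val j.succ) ≠ 0 := by
  rw [adj, herm_e0_left, herm_e0_right hF, not_iff_not]
  have h := norm_eq_head hF w
  constructor
  · intro h1
    rw [mul_comm (w.val 0), h1] at h
    simpa using h
  · intro h1
    rw [h1, add_zero, mul_comm] at h
    exact h

/-- The neighbours of the base point. -/
theorem exists_of_adj (hF : Fintype.card F = q ^ 2) {n : ℕ} (w : Pt (n + 3) F q)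
    (hw : adj (e0 (n + 2) F q) w) :
    ∃ (k : SU (n + 2) F q) (a : SU 2 F q), emb hF 1 (by omega : 1 + (n + 2) ≤ n + 3) k •
      emb hF 0 (by omega : 0 + 2 ≤ n + 3) a • e0 (n + 2) F q = w := by
  rw [adj_e0_iff hF] at hw
  obtain ⟨μ, hμ⟩ := exists_norm_eq hF (herm_self_pow hF (fun j : Fin (n + 2) => w.val j.succ))
  have h1 := norm_eq_head hF w
  rw [← hμ] at h1
  obtain ⟨k, hk⟩ := exists_su_map hF (n := n) (u := Pi.single 0 μ)
    (v := fun j : Fin (n + 2) => w.val j.succ) (by
      rw [herm_single_left, Pi.single_eq_same, hμ]) (by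
      rw [herm_single_left, Pi.single_eq_same, hμ]; exact hw)
  refine ⟨k, su2 hF (w.val 0) μ h1, ?_⟩
  apply Pt.ext'
  rw [smul_val, emb_one_mulVec, emb_zero_e0 hF (n := n + 1)]
  funext x
  refine Fin.cases ?_ (fun i => ?_) x
  · rw [Fin.cons_zero, Fin.cons_zero, mat_su2]
    rfl
  · rw [Fin.cons_succ]
    have : (fun j : Fin (n + 2) => (Fin.cons (mat (su2 hF (w.val 0) μ h1) 0 0)
        (Pi.single 0 (mat (su2 hF (w.val 0) μ h1) 1 0)) : Fin (n + 3) → F) j.succ) =
        Pi.single 0 μ := by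
      funext j
      rw [Fin.cons_succ, mat_su2]
      rfl
    rw [this, hk]

/-- The uniqueness lemma. -/
theorem decomp_of_map (hF : Fintype.card F = q ^ 2) {n : ℕ} (k : SU (n + 2) F q) (a b : SU 2 F q)
    (ha : adj (e0 (n + 2) F q) (emb hF 0 (by omega : 0 + 2 ≤ n + 3) a • e0 (n + 2) F q))
    (e : emb hF 1 (by omega : 1 + (n + 2) ≤ n + 3) k •
      emb hF 0 (by omega : 0 + 2 ≤ n + 3) a • e0 (n + 2) F q =
      emb hF 0 (by omega : 0 + 2 ≤ n + 3) b • e0 (n + 2) F q) :
    ∃ (t : SU 2 F q) (c : SU (n + 1) F q),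
      k = emb hF 0 (by omega : 0 + 2 ≤ n + 2) t * emb hF 1 (by omega : 1 + (n + 1) ≤ n + 2) c ∧
      emb hF 1 (by omega : 1 + 2 ≤ 3) t • emb hF 0 (by omega : 0 + 2 ≤ 3) a • e0 2 F q =
        emb hF 0 (by omega : 0 + 2 ≤ 3) b • e0 2 F q := by
  -- the coordinates
  have h1 := congrArg Pt.val e
  rw [smul_val, emb_one_mulVec, emb_zero_e0 hF (n := n + 1), emb_zero_e0 hF (n := n + 1)] at h1
  have hhead : mat a 0 0 = mat b 0 0 := by
    have := congrFun h1 0
    simpa only [Fin.cons_zero] using this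
  have htail : mat k *ᵥ (Pi.single 0 (mat a 1 0)) = Pi.single 0 (mat b 1 0) := by
    funext i
    have := congrFun h1 i.succ
    simpa only [Fin.cons_succ] using this
  have hμ0 : mat a 1 0 ≠ 0 := by
    rw [adj_e0_iff hF] at ha
    intro h0
    apply ha
    have : (fun j : Fin (n + 2) => (emb hF 0 (by omega : 0 + 2 ≤ n + 3) a •
        e0 (n + 2) F q).val j.succ) = 0 := by
      rw [emb_zero_e0 hF (n := n + 1)]
      funext j
      rw [Fin.cons_succ, h0, Pi.single_zero]
    rw [this, herm_zero_left]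
  set c := mat b 1 0 / mat a 1 0 with hc
  have hk1 : mat k *ᵥ (Pi.single 0 1) = Pi.single 0 c := by
    have h2 : (Pi.single 0 (mat a 1 0) : Fin (n + 2) → F) = mat a 1 0 • Pi.single 0 1 := by
      rw [← Pi.single_smul, smul_eq_mul, mul_one]
    rw [h2, Matrix.mulVec_smul] at htail
    have h3 : (Pi.single 0 (mat b 1 0) : Fin (n + 2) → F) = mat a 1 0 • Pi.single 0 c := by
      rw [← Pi.single_smul, smul_eq_mul, hc, mul_div_cancel₀ _ hμ0]
    rw [h3] at htail
    exact smul_right_injective _ hμ0 htail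
  have hcn : c * c ^ q + 0 * 0 ^ q = 1 := by
    have h2 := mat_isom k (Pi.single 0 1) (Pi.single 0 1)
    rw [hk1, herm_single_left, Pi.single_eq_same, herm_single_left, Pi.single_eq_same, one_pow,
      mul_one] at h2
    rw [h2, zero_mul, add_zero]
  have h0q : (0 : F) ^ q = 0 := zero_pow_q hF
  refine ⟨su2 hF c 0 hcn, ?_⟩
  -- `t⁻¹ k` fixes the first basis vector
  have hfix : ((emb hF 0 (by omega : 0 + 2 ≤ n + 2) (su2 hF c 0 hcn))⁻¹ * k) • e0 (n + 1) F q =
      e0 (n + 1) F q := by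
    rw [mul_smul, inv_smul_eq_iff]
    apply Pt.ext'
    rw [smul_val, emb_zero_e0, e0_val, hk1, mat_su2, single_zero_eq_cons]
    congr 1
    simp
  obtain ⟨d, hd⟩ := exists_emb_of_fix hF _ hfix
  refine ⟨d, ?_, ?_⟩
  · rw [hd, mul_inv_cancel_left]
  · apply Pt.ext'
    rw [smul_val, emb_one_mulVec, emb_zero_e0 hF (n := 1), emb_zero_e0 hF (n := 1), mat_su2]
    funext x
    refine Fin.cases ?_ (fun i => ?_) x
    · rw [Fin.cons_zero, Fin.cons_zero, Fin.cons_zero, hhead]
    · rw [Fin.cons_succ, Fin.cons_succ]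
      have h2 : (fun j : Fin 2 => (Fin.cons (mat a 0 0) (Pi.single 0 (mat a 1 0)) :
          Fin 3 → F) j.succ) = Pi.single 0 (mat a 1 0) := by
        funext j; rw [Fin.cons_succ]
      rw [h2]
      have h3 : c * mat a 1 0 = mat b 1 0 := by rw [hc, div_mul_cancel₀ _ hμ0]
      fin_cases i
      · simp [Matrix.mulVec, dotProduct, h3]
      · simp [Matrix.mulVec, dotProduct]

end Cfsg.Agent.Phan
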