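import Cfsg.Agent.Phan.ThreeNine
import Cfsg.Agent.Phan.ThreeFourAll
set_option linter.all false

/-!
# Phan systems over `F9`: coset certificate of rank five
-/

set_option autoImplicit false

namespace Cfsg.Agent.Phan.ThreeCardFour

open Matrix Cfsg Cfsg.Agent.Phan Cfsg.Agent.Phan.ThreeModel Cfsg.Agent.Phan.ThreeRel
open Cfsg.Agent.Phan.ThreeWord Cfsg.Agent.Phan.ThreeNine
open Cfsg.Agent.ChevalleyStructure.NineField
open Cfsg.Agent.SporadicRecognition.CosetCert Cfsg.Agent.SporadicRecognition.CosetCertHyp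

variable {H : Type*} [Group H]

/-- the certificate of rank five -/
theorem card_four {φ : ℕ → (SU 2 F9 3 →* H)} {g : ℕ → (SU 3 F9 3 →* H)} (h : System hF9 5 φ g)
    (h1 : ev (L φ 12) w1 = 1) (h2 : ev (L φ 12) w2 = 1)
    [Finite (Subgroup.closure ({φ 0 tt} ∪ (D φ 1 4 : Set H)))] :
    Finite (D φ 0 4) ∧ Nat.card (D φ 0 4) ≤
      4941 * Nat.card (Subgroup.closure ({φ 0 tt} ∪ (D φ 1 4 : Set H))) := by
  have hyp : Hyp ThreeFourData.C (Subgroup.closure ({φ 0 tt} ∪ (D φ 1 4 : Set H))) (L φ 16) := by
    refine hyp_of_checks (g := L φ 16) _ ThreeFourData.C ThreeFourData.rels ThreeFourData.subw ?_ ?_ ?_ ?_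
      (by decide +kernel)
    · exact if_neg (by decide +kernel)
    · have e : ThreeFourData.C.k = 16 := rfl
      intro x hx
      rw [e] at hx ⊢
      have h0 : ∀ x, x < 16 → ThreeFourData.C.inv x = iv x := by decide +kernel
      rw [h0 x hx]
      exact L_iv φ (by norm_num) hx
    · intro r hr
      have h0 : (ThreeFourData.rels.all fun r => okr 5 16 r || r == w1 || r == w2) = true := by
        decide +kernel
      have h3 := List.all_eq_true.mp h0 r hr
      rw [Bool.or_eq_true, Bool.or_eq_true, beq_iff_eq, beq_iff_eq] at h3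
      rcases h3 with (h3 | rfl) | rfl
      · exact ev_eq_one_of_okr h (by norm_num) (by norm_num) h3
      · exact w_rel (by norm_num) (lt_of_all (by decide +kernel)) h1
      · exact w_rel (by norm_num) (lt_of_all (by decide +kernel)) h2
    · have e : ThreeFourData.subw = [[4], [6], [8], [10], [12], [14], [0]] := by decide +kernel
      intro s hs
      rw [e] at hs
      have hD : ∀ j a, 1 ≤ j → j < 4 → φ j a ∈ Subgroup.closure ({φ 0 tt} ∪ (D φ 1 4 : Set H)) :=
        fun j a hj1 hj2 => Subgroup.subset_closure (Or.inr (mem_D hj1 hj2 a))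
      simp only [List.mem_cons, List.not_mem_nil, or_false] at hs
      rcases hs with rfl | rfl | rfl | rfl | rfl | rfl | rfl <;> rw [ev_cons, ev_nil, mul_one]
      · exact hD 1 tt (by norm_num) (by norm_num)
      · exact hD 1 cc (by norm_num) (by norm_num)
      · exact hD 2 tt (by norm_num) (by norm_num)
      · exact hD 2 cc (by norm_num) (by norm_num)
      · exact hD 3 tt (by norm_num) (by norm_num)
      · exact hD 3 cc (by norm_num) (by norm_num)
      · exact Subgroup.subset_closure (Or.inl rfl)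
  obtain ⟨hf, hc⟩ := card_closure_le _ _ _ hyp ThreeFourAll.part
  have e : ThreeFourData.C.k = 16 := rfl
  rw [e] at hf hc
  obtain ⟨h3, h4⟩ := card_le_of_le (D_le_closure φ (K := 16) (m := 4) rfl)
  exact ⟨h3, h4.trans hc⟩

end Cfsg.Agent.Phan.ThreeCardFour
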